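import Cfsg.Agent.Base
import Cfsg.Agent.TC.Sound
import Cfsg.Agent.Tits.T1
import Cfsg.Agent.Tits.T2
import Cfsg.Agent.Tits.T3
import Cfsg.Agent.Solv.FrattiniP
import Cfsg.Agent.PLocal.ElemAb

/-!
# Tits' presentation of `²F₄(2)`
-/

set_option autoImplicit false

namespace CL.Tits

open CL.TC

variable {Γ : Type*} [Group Γ]

/-- The subgroup generated by the first `n` generators. -/
def gp (g : ℕ → Γ) (n : ℕ) : Subgroup Γ := Subgroup.closure {a | ∃ j, j < n ∧ g j = a}

theorem mem_gp (g : ℕ → Γ) {n j : ℕ} (h : j < n) : g j ∈ gp g n := Subgroup.subset_closure ⟨j, h, rfl⟩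

theorem map_gp {Δ : Type*} [Group Δ] (f : Γ →* Δ) (g : ℕ → Γ) (n : ℕ) : (gp g n).map f = gp (fun j => f (g j)) n := by
  rw [gp, MonoidHom.map_closure, gp]
  congr 1
  ext a
  exact ⟨by rintro ⟨_, ⟨j, hj, rfl⟩, rfl⟩; exact ⟨j, hj, rfl⟩, by rintro ⟨j, hj, rfl⟩; exact ⟨_, ⟨j, hj, rfl⟩, rfl⟩⟩

variable (g : ℕ → Γ) (hinv : ∀ j, j < 14 → g (T1.invc j) = (g j)⁻¹) (hrel : ∀ r ∈ T1.rels, ev g r = 1)
include hinv hrel

theorem card_gp_six : Finite (gp g 6) ∧ Nat.card (gp g 6) ≤ 64 := by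
  have e : ∀ j < 6, T3.invc j = T1.invc j := by decide
  have h := T3.ok.card_le (by norm_num) g ⊥ (fun j hj => (congrArg g (e j hj)).trans (hinv j (hj.trans (by decide))))
    (fun r hr => hrel r ((by decide : ∀ r ∈ T3.rels, r ∈ T1.rels) r hr)) (by simp [T3.subs])
  rw [Subgroup.card_bot, mul_one] at h
  exact h

theorem card_gp_thirteen : Finite (gp g 13) ∧ Nat.card (gp g 13) ≤ 20480 := by
  have e : ∀ j < 13, T2.invc j = T1.invc j := by decide
  obtain ⟨_, h0⟩ := card_gp_six g hinv hrel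
  have h := T2.ok.card_le (by norm_num) g (gp g 6)
    (fun j hj => (congrArg g (e j hj)).trans (hinv j (hj.trans (by decide))))
    (fun r hr => hrel r ((by decide : ∀ r ∈ T2.rels, r ∈ T1.rels) r hr))
    fun r hr => ev_mem g fun j hj => mem_gp g ((by decide : ∀ r ∈ T2.subs, ∀ j ∈ r, j < 6) r hr j hj)
  exact ⟨h.1, h.2.trans (by omega)⟩

theorem card_gp : Finite (gp g 14) ∧ Nat.card (gp g 14) ≤ 35942400 := by
  obtain ⟨_, h0⟩ := card_gp_thirteen g hinv hrel
  have h := T1.ok.card_le (by norm_num) g (gp g 13) hinv hrel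
    fun r hr => ev_mem g fun j hj => mem_gp g ((by decide : ∀ r ∈ T1.subs, ∀ j ∈ r, j < 13) r hr j hj)
  exact ⟨h.1, h.2.trans (by omega)⟩

omit hinv hrel in
/-- The parity of a generator. -/
def χ (j : ℕ) : Multiplicative (ZMod 2) := if j ∈ [0, 1, 3, 4, 6, 7, 9, 10] then Multiplicative.ofAdd 1 else 1

theorem exists_hom (htop : gp g 14 = ⊤) (hcard : Nat.card Γ = 35942400) :
    ∃ φ : Γ →* Multiplicative (ZMod 2), φ (g 0) ≠ 1 := by
  let g' : ℕ → Γ × Multiplicative (ZMod 2) := fun j => (g j, χ j)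
  obtain ⟨_, h⟩ := card_gp g' (fun j hj => Prod.ext (hinv j hj)
    ((by decide : ∀ j < 14, χ (T1.invc j) = (χ j)⁻¹) j hj)) fun r hr => Prod.ext
      ((map_ev g' (MonoidHom.fst _ _) r).trans (hrel r hr))
      ((map_ev g' (MonoidHom.snd _ _) r).trans ((by decide : ∀ r ∈ T1.rels, ev χ r = 1) r hr))
  let π : gp g' 14 →* Γ := (MonoidHom.fst _ _).comp (gp g' 14).subtype
  have hs : Function.Surjective π := by
    rw [← MonoidHom.range_eq_top, MonoidHom.range_comp, Subgroup.range_subtype, map_gp]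
    exact htop
  have hb : Function.Bijective π := hs.bijective_of_nat_card_le (by omega)
  refine ⟨((MonoidHom.snd _ _).comp (gp g' 14).subtype).comp (MulEquiv.ofBijective π hb).symm.toMonoidHom, ?_⟩
  have : (MulEquiv.ofBijective π hb).symm (g 0) = ⟨g' 0, mem_gp g' (by norm_num)⟩ :=
    (MulEquiv.symm_apply_eq _).2 rfl
  change ((MulEquiv.ofBijective π hb).symm (g 0)).1.2 ≠ 1
  rw [this]
  change χ 0 ≠ 1
  decide

/-- An abelian quotient is generated by the image of `u₈`, of order at most two. -/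
theorem comm_image {A : Type*} [CommGroup A] (ψ : Γ →* A) :
    ψ (g 0) ^ 2 = 1 ∧ ∀ j < 14, ψ (g j) ∈ Subgroup.zpowers (ψ (g 0)) := by
  set f : ℕ → Additive A := fun j => Additive.ofMul (ψ (g j)) with hf
  have hr : ∀ r ∈ T1.rels, (r.map f).sum = 0 := fun r hr => by
    have h := map_ev g ψ r
    rw [hrel r hr, map_one] at h
    have h' := congrArg Additive.ofMul h.symm
    rwa [ev, ofMul_list_prod, List.map_map] at h'
  have hi : ∀ j < 14, f (T1.invc j) = -f j := fun j hj => by simp [hf, hinv j hj]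
  have i0 : f 1 = -f 0 := hi 0 (by norm_num)
  have i3 : f 4 = -f 3 := hi 3 (by norm_num)
  have i6 : f 7 = -f 6 := hi 6 (by norm_num)
  have i9 : f 10 = -f 9 := hi 9 (by norm_num)
  have i12 : f 12 = -f 12 := hi 12 (by norm_num)
  have i13 : f 13 = -f 13 := hi 13 (by norm_num)
  have r1 := hr [4, 0, 3, 1, 2] (by decide)
  have r2 := hr [7, 3, 6, 4, 5] (by decide)
  have r3 := hr [10, 6, 9, 7, 8] (by decide)
  have r4 := hr [12, 11, 12, 2] (by decide)
  have r5 := hr [13, 11, 13, 11, 13, 11] (by decide)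
  have r6 := hr [7, 2, 6, 2, 4, 4] (by decide)
  have r7 := hr [13, 9, 13, 1] (by decide)
  have r8 := hr [12, 9, 12, 4] (by decide)
  have r9 := hr [13, 6, 13, 4] (by decide)
  have r10 := hr [12, 0, 12, 1, 1, 12, 1] (by decide)
  simp only [List.map_cons, List.map_nil, List.sum_cons, List.sum_nil, i0, i3, i6, i9] at r1 r2 r3 r4 r5 r6 r7 r8 r9 r10
  have e2 : f 2 = 0 := by linear_combination (norm := abel) r1
  have e5 : f 5 = 0 := by linear_combination (norm := abel) r2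
  have e8 : f 8 = 0 := by linear_combination (norm := abel) r3
  have e11 : f 11 = 0 := by linear_combination (norm := abel) r4 - e2 - i12
  have e13 : f 13 = 0 := by linear_combination (norm := abel) r5 - e11 - e11 - e11 - i13
  have e9 : f 9 = f 0 := by linear_combination (norm := abel) r7 - i13
  have e3 : f 3 = f 0 := by linear_combination (norm := abel) e9 - r8 + i12
  have e6 : f 6 = f 0 := by linear_combination (norm := abel) e3 + r9 - i13
  have e0 : f 0 + f 0 = 0 := by linear_combination (norm := abel) e2 + e2 - r6 - e3 - e3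
  have e12 : f 12 = 0 := by linear_combination (norm := abel) r10 + e0 - i12
  refine ⟨by rw [sq]; exact e0, fun j hj => ?_⟩
  have m0 : ∀ j, f j = 0 → ψ (g j) ∈ Subgroup.zpowers (ψ (g 0)) := fun j h => by
    rw [show ψ (g j) = 1 from h]; exact one_mem _
  have m1 : ∀ j, f j = f 0 → ψ (g j) ∈ Subgroup.zpowers (ψ (g 0)) := fun j h => by
    rw [show ψ (g j) = ψ (g 0) from h]; exact Subgroup.mem_zpowers _
  have m2 : ∀ j, f j = -f 0 → ψ (g j) ∈ Subgroup.zpowers (ψ (g 0)) := fun j h => by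
    rw [show ψ (g j) = (ψ (g 0))⁻¹ from h]; exact inv_mem (Subgroup.mem_zpowers _)
  interval_cases j
  exacts [m1 _ rfl, m2 _ i0, m0 _ e2, m1 _ e3, m2 _ (e3 ▸ i3), m0 _ e5, m1 _ e6, m2 _ (e6 ▸ i6), m0 _ e8, m1 _ e9,
    m2 _ (e9 ▸ i9), m0 _ e11, m0 _ e12, m0 _ e13]

theorem zpowers_sup_commutator (htop : gp g 14 = ⊤) : Subgroup.zpowers (g 0) ⊔ commutator Γ = ⊤ := by
  rw [eq_top_iff, ← htop, gp, Subgroup.closure_le]
  rintro _ ⟨j, hj, rfl⟩
  obtain ⟨k, hk⟩ := (comm_image g hinv hrel Abelianization.of).2 j hj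
  have : (g 0 ^ k)⁻¹ * g j ∈ commutator Γ := by
    rw [← Abelianization.ker_of, MonoidHom.mem_ker, map_mul, map_inv, map_zpow, ← hk, inv_mul_cancel]
  simpa using Subgroup.mul_mem_sup (Subgroup.zpow_mem_zpowers (g 0) k) this

theorem index_commutator (htop : gp g 14 = ⊤) (hcard : Nat.card Γ = 35942400) : (commutator Γ).index = 2 := by
  obtain ⟨φ, hφ⟩ := exists_hom g hinv hrel htop hcard
  have h1 : g 0 ∉ commutator Γ := fun h => hφ (Abelianization.commutator_subset_ker φ h)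
  obtain ⟨h2, h3⟩ := comm_image g hinv hrel Abelianization.of
  have h4 : orderOf (Abelianization.of (g 0)) = 2 := orderOf_eq_prime h2 fun h => h1 (by
    rwa [← Abelianization.ker_of])
  have h5 : Subgroup.zpowers (Abelianization.of (g 0)) = ⊤ := by
    rw [eq_top_iff, ← MonoidHom.range_eq_top.2 (show Function.Surjective (Abelianization.of (G := Γ)) from QuotientGroup.mk_surjective), MonoidHom.range_eq_map, ← htop,
      map_gp, gp, Subgroup.closure_le]
    rintro _ ⟨j, hj, rfl⟩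
    exact h3 j hj
  rw [← h4, ← Nat.card_zpowers, h5, Subgroup.card_top]
  rfl

end CL.Tits

namespace CL

/-- The derived subgroup, of index two, of a group whose nontrivial normal subgroups have `2`-group quotients is
simple, unless its order is a square. -/
theorem isSimpleGroup_commutator_of_index_two {Γ : Type*} [Group Γ] [Finite Γ] (hi : (commutator Γ).index = 2)
    (hsq : ¬ IsSquare (Nat.card (commutator Γ))) (B : Subgroup Γ) (hB : IsPGroup 2 B)
    (hM : ∀ M : Subgroup Γ, M.Normal → M = ⊥ ∨ B ⊔ M = ⊤) : IsSimpleGroup (commutator Γ) := by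
  obtain ⟨g, hg⟩ : ∃ g, g ∉ commutator Γ := by
    by_contra! h
    rw [(Subgroup.eq_top_iff' _).2 h, Subgroup.index_top] at hi
    omega
  have hg' : ∀ x, x ∈ commutator Γ ∨ g⁻¹ * x ∈ commutator Γ := fun x => by
    rw [Subgroup.mul_mem_iff_of_index_two hi, inv_mem_iff]
    tauto
  have key : ∀ M : Subgroup Γ, M.Normal → M ≠ ⊥ → commutator Γ ≤ M := by
    intro M hN h0
    have h1 := (hM M hN).resolve_left h0
    have hQ : IsPGroup 2 (Γ ⧸ M) := hB.of_surjective ((QuotientGroup.mk' M).comp B.subtype) (by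
      rw [← MonoidHom.range_eq_top, MonoidHom.range_comp, Subgroup.range_subtype,
        ← sup_bot_eq (B.map _), ← (Subgroup.map_eq_bot_iff M).2 (QuotientGroup.ker_mk' M).ge, ← Subgroup.map_sup, h1]
      exact Subgroup.map_top_of_surjective _ (QuotientGroup.mk'_surjective M))
    have h2 : Subgroup.zpowers (g : Γ ⧸ M) = ⊤ := frattini_nongenerating (by
      rw [eq_top_iff]
      intro x _
      obtain ⟨x, rfl⟩ := QuotientGroup.mk_surjective x
      have h3 : ∀ y ∈ commutator Γ, (y : Γ ⧸ M) ∈ frattini (Γ ⧸ M) := fun y hy =>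
        commutator_le_frattini_of_isPGroup hQ (Subgroup.commutator_mono le_top le_top
          ((Subgroup.map_commutator ⊤ ⊤ (QuotientGroup.mk' M)).le ⟨y, hy, rfl⟩))
      rcases hg' x with h | h
      · exact Subgroup.mem_sup_right (h3 x h)
      · simpa using Subgroup.mul_mem_sup (Subgroup.mem_zpowers (g : Γ ⧸ M)) (h3 _ h))
    have : IsCyclic (Γ ⧸ M) := isCyclic_iff_exists_zpowers_eq_top.2 ⟨_, h2⟩
    exact Subgroup.Normal.quotient_commutative_iff_commutator_le.1 IsCyclic.isMulCommutative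
  have hnt : Nontrivial (commutator Γ) := by
    rw [← not_subsingleton_iff_nontrivial]
    intro h
    exact hsq ⟨1, Nat.card_of_subsingleton 1⟩
  refine ⟨fun S hS => ?_⟩
  by_contra! hne
  set S₁ := S.map (commutator Γ).subtype with hS₁
  have hle : S₁ ≤ commutator Γ := Subgroup.map_subtype_le S
  have n1 : ∀ t ∈ commutator Γ, ∀ s ∈ S₁, t * s * t⁻¹ ∈ S₁ := by
    rintro t ht _ ⟨s, hs, rfl⟩
    exact ⟨_, hS.conj_mem s hs ⟨t, ht⟩, rfl⟩
  set S₂ := S₁.comap (MulAut.conj g).toMonoidHom with hS₂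
  have m2 : ∀ s, s ∈ S₂ ↔ g * s * g⁻¹ ∈ S₁ := fun s => Iff.rfl
  have hgg : g * g ∈ commutator Γ := Subgroup.mul_self_mem_of_index_two hi g
  have n2 : ∀ t ∈ commutator Γ, ∀ s ∈ S₂, t * s * t⁻¹ ∈ S₂ := fun t ht s hs => by
    have := n1 _ ((inferInstance : (commutator Γ).Normal).conj_mem t ht g) _ ((m2 s).1 hs)
    rw [m2]
    convert this using 1
    group
  have n3 : ∀ s ∈ S₁, g * s * g⁻¹ ∈ S₂ := fun s hs => by
    rw [m2]
    convert n1 _ hgg s hs using 1
    group
  have hle2 : S₂ ≤ commutator Γ := fun s hs => by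
    have := (inferInstance : (commutator Γ).Normal).conj_mem _ (hle hs) g⁻¹
    simpa [mul_assoc] using this
  have normal_of : ∀ M : Subgroup Γ, (∀ t ∈ commutator Γ, ∀ s ∈ M, t * s * t⁻¹ ∈ M) →
      (∀ s ∈ M, g * s * g⁻¹ ∈ M) → M.Normal := fun M h1 h2 => ⟨fun s hs x => by
    rcases hg' x with h | h
    · exact h1 x h s hs
    · convert h2 _ (h1 _ h s hs) using 1
      group⟩
  have N1 : (S₁ ⊓ S₂).Normal := normal_of _ (fun t ht s hs => ⟨n1 t ht s hs.1, n2 t ht s hs.2⟩)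
    fun s hs => ⟨hs.2, n3 s hs.1⟩
  have conj_sup : ∀ x : Γ, (∀ s ∈ S₁, x * s * x⁻¹ ∈ S₁ ⊔ S₂) → (∀ s ∈ S₂, x * s * x⁻¹ ∈ S₁ ⊔ S₂) →
      ∀ s ∈ S₁ ⊔ S₂, x * s * x⁻¹ ∈ S₁ ⊔ S₂ := fun x h1 h2 =>
    (sup_le h1 h2 : S₁ ⊔ S₂ ≤ (S₁ ⊔ S₂).comap (MulAut.conj x).toMonoidHom)
  have N2 : (S₁ ⊔ S₂).Normal := normal_of _
    (fun t ht => conj_sup t (fun s hs => Subgroup.mem_sup_left (n1 t ht s hs))
      fun s hs => Subgroup.mem_sup_right (n2 t ht s hs))
    (conj_sup g (fun s hs => Subgroup.mem_sup_right (n3 s hs)) fun s hs => Subgroup.mem_sup_left hs)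
  have h1 : S₁ ≠ ⊥ := fun h => hne.1 ((Subgroup.map_eq_bot_iff_of_injective _ (Subgroup.subtype_injective _)).1 h)
  have h2 : S₁ ⊓ S₂ = ⊥ := by
    by_contra h
    refine hne.2 (eq_top_iff.2 fun x _ => ?_)
    obtain ⟨s, hs, e⟩ := (key _ N1 h x.2).1
    exact (Subtype.ext e : s = x) ▸ hs
  have h3 : S₁ ⊔ S₂ = commutator Γ :=
    le_antisymm (sup_le hle hle2) (key _ N2 fun h => h1 (le_bot_iff.1 (le_sup_left.trans h.le)))
  have h4 : Nat.card S₂ = Nat.card S₁ := by
    rw [hS₂, Subgroup.comap_equiv_eq_map_symm']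
    exact Subgroup.card_map_of_injective (MulEquiv.injective _)
  apply hsq
  refine ⟨Nat.card S₁, ?_⟩
  rw [← h3, EA.card_sup_of_disjoint (fun t ht => Subgroup.mem_normalizer_fintype (n2 t (hle ht))) h2, h4]

end CL
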