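import Cfsg.Agent.Base
import Cfsg.Agent.Tits.Mat
import Cfsg.Agent.Tits.Pres
import Cfsg.Prelude.Def_LieTwisted

/-!
# `²F₄(2)` is generated by the generators of Tits' presentation
-/

set_option autoImplicit false

namespace CL.Tits

open Matrix Cfsg.Lie CL.ChevM CL.TC

theorem h2 : (2 : ZMod 2) = 0 := rfl

theorem coe_gen (j : ℕ) : (gen (ZMod 2) j : Matrix chevF4.Idx chevF4.Idx (ZMod 2)) =
    chevF4.wordMat (ZMod 2) ((wds.getD j []).map fun r => (r, 1)) := by
  rw [gen, ChevalleyDatum.wordMat, List.map_map]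
  induction wds.getD j [] with
  | nil => rfl
  | cons r w ih => rw [ev_cons, Units.val_mul, ih]; rfl

theorem wordMat_cons_zero (r : ℕ) (w : List (ℕ × ZMod 2)) :
    chevF4.wordMat (ZMod 2) ((r, 0) :: w) = chevF4.wordMat (ZMod 2) w := by
  rw [ChevalleyDatum.wordMat, List.map_cons, List.prod_cons, coreF4.x_zero, one_mul, ChevalleyDatum.wordMat]

theorem wordMat_cons_congr (p : ℕ × ZMod 2) {w w' : List (ℕ × ZMod 2)}
    (h : chevF4.wordMat (ZMod 2) w = chevF4.wordMat (ZMod 2) w') :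
    chevF4.wordMat (ZMod 2) (p :: w) = chevF4.wordMat (ZMod 2) (p :: w') := by
  simp only [ChevalleyDatum.wordMat, List.map_cons, List.prod_cons] at h ⊢
  rw [h]

theorem b2_words (a b c d : ℕ) :
    chevF4.wordMat (ZMod 2) (b2ClassWord 1 a b c d 0 0) = 1 ∧
    chevF4.wordMat (ZMod 2) (b2ClassWord 1 a b c d 0 1) = chevF4.wordMat (ZMod 2) [(c, 1), (d, 1)] ∧
    chevF4.wordMat (ZMod 2) (b2ClassWord 1 a b c d 1 0) = chevF4.wordMat (ZMod 2) [(a, 1), (b, 1), (c, 1)] ∧
    chevF4.wordMat (ZMod 2) (b2ClassWord 1 a b c d 1 1) = chevF4.wordMat (ZMod 2) [(a, 1), (b, 1), (d, 1)] := by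
  have e : (1 : ZMod 2) + 1 = 0 := rfl
  simp [b2ClassWord, ChevalleyDatum.wordMat, coreF4.x_zero, e]

theorem pair_words (a b : ℕ) : chevF4.wordMat (ZMod 2) (f4PairWord 1 a b 0) = 1 ∧
    chevF4.wordMat (ZMod 2) (f4PairWord 1 a b 1) = chevF4.wordMat (ZMod 2) [(a, 1), (b, 1)] := by
  simp [f4PairWord, ChevalleyDatum.wordMat, coreF4.x_zero]

theorem twisted_eq : twistedF4 (ZMod 2) 1 = gp (gen (ZMod 2)) 14 := by
  have hr := gen_rels h2
  have he := gen_extra h2
  have hi := gen_inv h2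
  have key : ∀ (K : Subgroup (GL chevF4.Idx (ZMod 2))) (v w : List ℕ) (j : ℕ), ev (gen (ZMod 2)) (v ++ j :: w) = 1 →
      (∀ i ∈ v ++ w, gen (ZMod 2) i ∈ K) → gen (ZMod 2) j ∈ K := fun K v w j h hm => by
    rw [ev_append, ev_cons, ← eq_inv_iff_mul_eq_one, ← inv_eq_iff_eq_inv, eq_comm, ← eq_mul_inv_iff_mul_eq] at h
    rw [h]
    exact mul_mem (inv_mem (ev_mem _ fun i hi => hm i (by simp [hi]))) (inv_mem (ev_mem _ fun i hi => hm i (by simp [hi])))
  apply le_antisymm
  · set K := gp (gen (ZMod 2)) 14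
    have m : ∀ (v : List ℕ) (j : ℕ), v ++ [j] ∈ extra → (∀ i ∈ v, i < 14) → gen (ZMod 2) j ∈ K := fun v j h h' =>
      key K v [] j (he _ h) fun i hi => mem_gp _ (h' i (by simpa using hi))
    have m' : ∀ (j : ℕ) (g : GL chevF4.Idx (ZMod 2)), gen (ZMod 2) j ∈ K →
        (g : Matrix chevF4.Idx chevF4.Idx (ZMod 2)) =
          chevF4.wordMat (ZMod 2) ((wds.getD j []).map fun r => (r, 1)) → g ∈ K := fun j g h h' => by
      rwa [(Units.ext (h'.trans (coe_gen j).symm) : g = gen (ZMod 2) j)]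
    have m1 : ∀ g : GL chevF4.Idx (ZMod 2), (g : Matrix chevF4.Idx chevF4.Idx (ZMod 2)) = 1 → g ∈ K := fun g h => by
      rw [(Units.ext h : g = 1)]; exact one_mem _
    have hz := eq_zero_or_one_of_card_eq_two (F := ZMod 2) rfl
    refine (Subgroup.closure_le _).2 ?_
    rintro g ⟨w, (⟨t, rfl | rfl⟩ | ⟨t, u, rfl | rfl⟩), hg⟩
    · rcases hz t with rfl | rfl
      · exact m1 g (hg.trans (pair_words _ _).1)
      · exact m' 11 g (mem_gp _ (by norm_num)) (hg.trans (pair_words _ _).2)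
    · rcases hz t with rfl | rfl
      · exact m1 g (hg.trans (pair_words _ _).1)
      · exact m' 14 g (m [13, 11, 13] 14 (by decide) (by decide)) (hg.trans (pair_words _ _).2)
    · rcases hz t with rfl | rfl <;> rcases hz u with rfl | rfl
      · exact m1 g (hg.trans (b2_words _ _ _ _).1)
      · exact m' 18 g (m [0, 0] 18 (by decide) (by decide)) (hg.trans (b2_words _ _ _ _).2.1)
      · exact m' 0 g (mem_gp _ (by norm_num)) (hg.trans (b2_words _ _ _ _).2.2.1)
      · exact m' 1 g (mem_gp _ (by norm_num)) (hg.trans (b2_words _ _ _ _).2.2.2)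
    · rcases hz t with rfl | rfl <;> rcases hz u with rfl | rfl
      · exact m1 g (hg.trans (b2_words _ _ _ _).1)
      · exact m' 16 g (m [12, 0, 0, 12] 16 (by decide) (by decide)) (hg.trans (b2_words _ _ _ _).2.1)
      · exact m' 15 g (m [12, 1, 12] 15 (by decide) (by decide)) (hg.trans (b2_words _ _ _ _).2.2.1)
      · exact m' 17 g (m [12, 0, 12] 17 (by decide) (by decide)) (hg.trans (b2_words _ _ _ _).2.2.2)
  · set K := twistedF4 (ZMod 2) 1
    have m : ∀ (j : ℕ) (w : List (ℕ × ZMod 2)), w ∈ f4Words (ZMod 2) 1 → chevF4.wordMat (ZMod 2) w =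
        chevF4.wordMat (ZMod 2) ((wds.getD j []).map fun r => (r, 1)) → gen (ZMod 2) j ∈ K := fun j w hw h =>
      Subgroup.subset_closure ⟨w, hw, (coe_gen j).trans h.symm⟩
    have m11 := m 11 _ (Or.inl ⟨1, Or.inl rfl⟩) (pair_words _ _).2
    have m14 := m 14 _ (Or.inl ⟨1, Or.inr rfl⟩) (pair_words _ _).2
    have m0 := m 0 _ (Or.inr ⟨1, 0, Or.inl rfl⟩) (b2_words _ _ _ _).2.2.1
    have m1 := m 1 _ (Or.inr ⟨1, 1, Or.inl rfl⟩) (b2_words _ _ _ _).2.2.2
    have m16 := m 16 _ (Or.inr ⟨0, 1, Or.inr rfl⟩) (b2_words _ _ _ _).2.1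
    have m13 := key K [11, 14, 11] [] 13 (he _ (by decide)) (by simp [m11, m14])
    have m12 := key K [0, 16, 1] [] 12 (he _ (by decide)) (by simp [m0, m1, m16])
    have m9 := key K [13] [13, 1] 9 (hr _ (by decide)) (by simp [m13, m1])
    have m2 := key K [12, 11, 12] [] 2 (hr _ (by decide)) (by simp [m12, m11])
    have m8 := key K [13] [13, 2] 8 (hr _ (by decide)) (by simp [m13, m2])
    have m4 := key K [12, 9, 12] [] 4 (hr _ (by decide)) (by simp [m12, m9])
    have m6 := key K [13] [13, 4] 6 (hr _ (by decide)) (by simp [m13, m4])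
    have m5 := key K [12, 8, 12] [] 5 (hr _ (by decide)) (by simp [m12, m8])
    have m3 : gen (ZMod 2) 3 ∈ K := (hi 4 (by norm_num)).symm ▸ inv_mem m4
    have m7 : gen (ZMod 2) 7 ∈ K := (hi 6 (by norm_num)).symm ▸ inv_mem m6
    have m10 : gen (ZMod 2) 10 ∈ K := (hi 9 (by norm_num)).symm ▸ inv_mem m9
    refine (Subgroup.closure_le _).2 ?_
    rintro _ ⟨j, hj, rfl⟩
    interval_cases j
    exacts [m0, m1, m2, m3, m4, m5, m6, m7, m8, m9, m10, m11, m12, m13]

open Classical in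
/-- The generators as elements of `²F₄(2)`. -/
noncomputable def genG (j : ℕ) : twistedF4 (ZMod 2) 1 :=
  if h : gen (ZMod 2) j ∈ twistedF4 (ZMod 2) 1 then ⟨_, h⟩ else 1

theorem coe_genG {j : ℕ} (hj : j < 14) : (genG j : GL chevF4.Idx (ZMod 2)) = gen (ZMod 2) j := by
  rw [genG, dif_pos (twisted_eq ▸ mem_gp _ hj)]

theorem genG_inv : ∀ j, j < 14 → genG (T1.invc j) = (genG j)⁻¹ := fun j hj => Subtype.ext (by
  rw [coe_genG ((by decide : ∀ j < 14, T1.invc j < 14) j hj), gen_inv h2 j hj, Subgroup.coe_inv, coe_genG hj])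

theorem genG_rels : ∀ r ∈ T1.rels, ev genG r = 1 := fun r hr => Subtype.ext (by
  refine (map_ev genG (twistedF4 (ZMod 2) 1).subtype r).trans (Eq.trans ?_ (gen_rels h2 r hr))
  exact congrArg List.prod (List.map_congr_left fun j hj =>
    coe_genG ((by decide : ∀ r ∈ T1.rels, ∀ j ∈ r, j < 14) r hr j hj)))

theorem gp_genG : gp genG 14 = ⊤ := by
  apply Subgroup.map_injective (twistedF4 (ZMod 2) 1).subtype_injective
  rw [map_gp, ← MonoidHom.range_eq_map, Subgroup.range_subtype]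
  refine Eq.trans ?_ twisted_eq.symm
  rw [gp, gp]
  congr 1
  ext a
  exact exists_congr fun j => and_congr_right fun hj => by rw [← coe_genG hj]; rfl

end CL.Tits
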