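import Cfsg.Agent.Base
import Cfsg.Agent.Tits.Group
import Cfsg.Agent.Chev.TwF4
import Cfsg.Agent.Chev.MatTorus
import Cfsg.Agent.BN.Parabolic

/-!
# The Tits group is simple
-/

set_option autoImplicit false

namespace CL.Tw

open Cfsg.Lie Cfsg.Lie.ChevalleyDatum CL.ChevM

/-- A normal subgroup of a twisted group is contained in the Borel subgroup or supplements it. -/
theorem TwData.normal_le_or {D : ChevalleyDatum} {η : ℕ → ℕ → ℤ} {C : Core D η} {K : Type*} [Field K] {ι : Type*}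
    [Weyl.WeylOK D] [CoefOK D] (T : TwData C K ι) {Γ : Subgroup (GL D.Idx K)}
    (hΓ : Γ = T.sys.G1.map (D.group K).subtype)
    (hconn : ∀ A : Set ι, A.Nonempty → Aᶜ.Nonempty → ∃ j ∈ A, ∃ k ∉ A,
      T.sys.wJ j * T.sys.wJ k ≠ T.sys.wJ k * T.sys.wJ j) (M : Subgroup Γ) [M.Normal] :
    M ≤ (D.borelSubgroup K ⊓ Γ).subgroupOf Γ ∨ (D.borelSubgroup K ⊓ Γ).subgroupOf Γ ⊔ M = ⊤ := by
  obtain ⟨P, h1, -, h3, h4⟩ := TwSys.exists_BNPair _ (Subgroup.inclusion_injective _) (T.range_inclusion hΓ)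
  rw [← T.comap_B hΓ, ← h1]
  exact BN.normal_le_or_sup_eq_top P (TwSys.irreducible_BNPair _ h1 h3 h4 hconn) M

end CL.Tw

namespace CL.Tits

open Cfsg.Lie CL.ChevM CL.Tw

theorem borel_eq : chevF4.borelSubgroup (ZMod 2) = chevF4.posUnipotent (ZMod 2) := by
  rw [ChevalleyDatum.borelSubgroup, sup_eq_left, ← coreF4.range_torHom]
  rintro _ ⟨c, rfl⟩
  rw [Subsingleton.elim c 1, map_one]
  exact one_mem _

theorem main {σ : ↥(chevF4.group (ZMod 2)) →* ↥(chevF4.group (ZMod 2))} (H : F4Hyp 0 σ) :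
    (commutator ↥(twistedF4 (ZMod 2) 1)).index = 2 ∧ IsSimpleGroup TitsGroup ∧ ¬ IsMulCommutative TitsGroup ∧
      Nat.card TitsGroup = 2 ^ 11 * 3 ^ 3 * 5 ^ 2 * 13 := by
  have hc : Nat.card ↥(twistedF4 (ZMod 2) 1) = 35942400 := H.card_twisted
  have hi := index_commutator genG genG_inv genG_rels gp_genG hc
  have hT : Nat.card TitsGroup = 2 ^ 11 * 3 ^ 3 * 5 ^ 2 * 13 := by
    have := (commutator ↥(twistedF4 (ZMod 2) 1)).card_mul_index
    rw [hi, hc] at this
    change Nat.card (commutator ↥(twistedF4 (ZMod 2) 1)) = _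
    omega
  have : Finite ↥(twistedF4 (ZMod 2) 1) := Nat.finite_of_card_ne_zero (by omega)
  have hs : IsSimpleGroup TitsGroup := by
    refine isSimpleGroup_commutator_of_index_two hi (by rw [hT]; norm_num)
      ((chevF4.borelSubgroup (ZMod 2) ⊓ twistedF4 (ZMod 2) 1).subgroupOf _) (IsPGroup.of_card (n := 12) ?_)
      fun M hM => ?_
    · rw [Nat.card_congr (Subgroup.subgroupOfEquivOfLe inf_le_right).toEquiv, borel_eq]
      exact H.card_U
    · refine (H.tw.normal_le_or H.twisted_eq (conn_two H.hconn) M).imp_left fun h => ?_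
      rw [eq_bot_iff]
      exact (Subgroup.normal_le_normalCore.2 h).trans H.core_eq_bot.le
  refine ⟨hi, hs, fun h => ?_, hT⟩
  have := @IsSimpleGroup.prime_card TitsGroup { (inferInstance : Group TitsGroup) with mul_comm := h.is_comm.comm } hs
  rw [hT] at this
  norm_num at this

end CL.Tits
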